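import Groth.Agent.Lefpen.H40.QuadSub
import Groth.Agent.Lefpen.H712.HredH
import Groth.Agent.Etcore.FieldLim
import Groth.Agent.Etcore.HC

/-!
# A class on the geometric generic quadric moved by the monodromy

From a compatible family `b₀` on the split quadric over the algebraically closed field of constants which
is moved by the swap, the pull-back family on `PΩ` satisfies: `N • (σ - 1)³ b = 0 ⟹ ℓ ^ ν ∣ 4 N`
(everything with the short instances `HH`).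
-/

set_option autoImplicit false
universe u
open CategoryTheory CategoryTheory.Limits AlgebraicGeometry
open Groth.Agent.Lefpen.H713.HypProj Groth.Agent.Lefpen.H724.Quad Groth.Agent.Lefpen.H40.QuadSub
open scoped Groth.Agent.Etcore.EtInst
open Groth.Agent.Etcore.EtInst Groth.Agent.Etcore.HpullCalc Groth.Agent.Etcore.HC

namespace Groth.Agent.Lefpen.H40.ClassDesc

/-- the reductions commute with pull-back -/
theorem red_HC {X Y : Scheme.{u}} (f : X ⟶ Y) (ℓ ν n : ℕ)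
    (x : HH Y (EtCoh.const Y (ZMod (ℓ ^ (ν + 1)))) n) :
    HHmap (EtAdic.red X ℓ ν) n (HC (ZMod (ℓ ^ (ν + 1))) f n x) =
      HC (ZMod (ℓ ^ ν)) f n (HHmap (EtAdic.red Y ℓ ν) n x) :=
  Groth.Agent.Lefpen.H712.HredH.red_hp ℓ f n ν x

/-- injectivity of the pull-back along a field extension of the ground field -/
theorem injective_HC_of_isPullback {k Ω : Type u} [Field k] [IsAlgClosed k] [Field Ω] (φ₀ : k →+* Ω)
    {X P : Scheme.{u}} {p : P ⟶ X} {s : P ⟶ Spec (CommRingCat.of Ω)} {f : X ⟶ Spec (CommRingCat.of k)}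
    [QuasiCompact f] [QuasiSeparated f] (h : IsPullback p s f (Spec.map (CommRingCat.ofHom φ₀)))
    (M : Type) [AddCommGroup M] (n : ℕ) : Function.Injective (HC M p n) := by
  let _ : Algebra k Ω := φ₀.toAlgebra
  have h1 : Function.Injective (HC M (pullback.fst f (Spec.map (CommRingCat.ofHom φ₀))) n) :=
    (injective_HC_iff M _ n).2 (Groth.Agent.Etcore.FieldLim.hp_injective_algebra k Ω f _ n)
  have h2 : Function.Injective (HC M h.isoPullback.hom n) :=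
    ((bijective_HC_iff M h.isoPullback.hom n).2 (bijective_hp_of_isIso h.isoPullback.hom _ n)).1
  intro x y hxy
  apply h1
  apply h2
  have w : h.isoPullback.hom ≫ pullback.fst f (Spec.map (CommRingCat.ofHom φ₀)) = p := h.isoPullback_hom_fst
  rw [HC_HC M _ _ p w, HC_HC M _ _ p w, hxy]

/-- The algebra: `(S - 1)³ (P x) = P (4 (T x - x))` if `S P = P T` and `T² = 1`. -/
theorem cube_eq {A B : Type*} [AddCommGroup A] [AddCommGroup B] (S : B →+ B) (T : A →+ A) (P : A →+ B)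
    (h : ∀ x, S (P x) = P (T x)) (hT : ∀ x, T (T x) = x) (x : A) :
    S (S (S (P x) - P x) - (S (P x) - P x)) - (S (S (P x) - P x) - (S (P x) - P x)) =
      P (4 • (T x - x)) := by
  simp only [map_sub, h, hT, map_nsmul]
  abel

theorem dvd_of {A B : Type*} [AddCommGroup A] [AddCommGroup B] (S : B →+ B) (T : A →+ A) (P : A →+ B)
    (h : ∀ x, S (P x) = P (T x)) (hT : ∀ x, T (T x) = x) (hP : Function.Injective P) (x : A) (q : ℕ)
    (hx : ∀ N : ℕ, N • (T x - x) = 0 → q ∣ N) (N : ℕ)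
    (hN : N • (S (S (S (P x) - P x) - (S (P x) - P x)) - (S (S (P x) - P x) - (S (P x) - P x))) = 0) :
    q ∣ 4 * N := by
  rw [cube_eq S T P h hT, ← map_nsmul, ← mul_nsmul] at hN
  exact hx _ (hP (hN.trans (map_zero P).symm))

section Main

variable {k R Ω : Type u} [Field k] [IsAlgClosed k] [CommRing R] [Algebra k R] [Field Ω] [Algebra R Ω]
  (m : ℕ) (b c : R)

/-- **The class on the geometric generic quadric**, from a class on the split quadric. -/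
theorem exists_class_HH (ℓ : ℕ) (b₀ : ∀ ν : ℕ, HH (Hyp (spl k m)) (EtCoh.const _ (ZMod (ℓ ^ ν))) (2 * m))
    (hred : ∀ ν, HHmap (EtAdic.red _ ℓ ν) (2 * m) (b₀ (ν + 1)) = b₀ ν)
    (hN : ∀ ν N : ℕ, N • (HC (ZMod (ℓ ^ ν)) (swp k m) (2 * m) (b₀ ν) - b₀ ν) = 0 → ℓ ^ ν ∣ N)
    (α β : Ω) (h1 : α + β = - algebraMap R Ω b)
    (h2 : α * β = algebraMap R Ω c) (h3 : α ≠ β) (σ : Ω ≃ₐ[R] Ω) (h4 : σ α = β) (h5 : σ β = α) :
    ∃ b' : ∀ ν : ℕ, HH (PΩ R m b c Ω) (EtCoh.const _ (ZMod (ℓ ^ ν))) (2 * m),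
      (∀ ν, HHmap (EtAdic.red _ ℓ ν) (2 * m) (b' (ν + 1)) = b' ν) ∧ ∀ ν N : ℕ,
      N • (HC (ZMod (ℓ ^ ν)) (act R m b c Ω σ) (2 * m)
          (HC (ZMod (ℓ ^ ν)) (act R m b c Ω σ) (2 * m)
            (HC (ZMod (ℓ ^ ν)) (act R m b c Ω σ) (2 * m) (b' ν) - b' ν) -
              (HC (ZMod (ℓ ^ ν)) (act R m b c Ω σ) (2 * m) (b' ν) - b' ν)) -
          (HC (ZMod (ℓ ^ ν)) (act R m b c Ω σ) (2 * m)
            (HC (ZMod (ℓ ^ ν)) (act R m b c Ω σ) (2 * m) (b' ν) - b' ν) -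
              (HC (ZMod (ℓ ^ ν)) (act R m b c Ω σ) (2 * m) (b' ν) - b' ν))) = 0 →
      ℓ ^ ν ∣ 4 * N := by
  let φ₀ : k →+* Ω := (algebraMap R Ω).comp (algebraMap k R)
  have h6 : ∀ a, σ (φ₀ a) = φ₀ a := fun a => σ.commutes _
  have hact : act R m b c Ω σ ≫ piQ φ₀ m h1 h2 h3 = piQ φ₀ m h1 h2 h3 ≫ swp k m :=
    act_piQ φ₀ m h1 h2 h3 σ h4 h5 h6
  have hpb := isPullback_piQ φ₀ m h1 h2 h3
  refine ⟨fun ν => HC (ZMod (ℓ ^ ν)) (piQ φ₀ m h1 h2 h3) (2 * m) (b₀ ν), fun ν => ?_, fun ν N h => ?_⟩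
  · rw [red_HC, hred]
  · refine dvd_of (HC (ZMod (ℓ ^ ν)) (act R m b c Ω σ) (2 * m)) (HC (ZMod (ℓ ^ ν)) (swp k m) (2 * m))
      (HC (ZMod (ℓ ^ ν)) (piQ φ₀ m h1 h2 h3) (2 * m)) (fun x => ?_) (fun x => ?_)
      (injective_HC_of_isPullback φ₀ hpb (ZMod (ℓ ^ ν)) (2 * m)) (b₀ ν) (ℓ ^ ν) (hN ν) N h
    · rw [HC_HC _ _ _ (act R m b c Ω σ ≫ piQ φ₀ m h1 h2 h3) rfl,
        HC_HC _ _ _ (act R m b c Ω σ ≫ piQ φ₀ m h1 h2 h3) hact.symm]
    · rw [HC_HC _ _ _ (𝟙 _) (swp_swp k m), HC_id]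

end Main

end Groth.Agent.Lefpen.H40.ClassDesc
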