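import Groth.Agent.Lefpen.H40.ClassDesc
import Groth.Agent.Lefpen.H527.Geo

/-!
# The model of the split quadric of `H527.Quad` and `spl k m`
-/

set_option autoImplicit false
universe u
open CategoryTheory CategoryTheory.Limits AlgebraicGeometry MvPolynomial
open Groth.Agent.Lefpen.H713.HypProj Groth.Agent.Lefpen.H724.Quad Groth.Agent.Lefpen.H40.QuadSub
open Groth.Agent.Lefpen.H40.SemiMap Groth.Agent.Vancyc.H694.StdT
open Groth.Agent.Sga5.ProjSurj Groth.Agent.Lefpen.H713.GrQuot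
open scoped Groth.Agent.Etcore.EtInst
open Groth.Agent.Etcore.EtInst Groth.Agent.Etcore.HpullCalc Groth.Agent.Etcore.HC

namespace Groth.Agent.Lefpen.H40.Convert

variable (m : ℕ)

/-- the numbering of the coordinates -/
def fC : Fin 2 ⊕ (Fin m ⊕ Fin m) → Fin (2 * m + 1 + 1)
  | Sum.inl a => if a = 0 then 0 else Fin.last _
  | Sum.inr (Sum.inl i) => ix m i
  | Sum.inr (Sum.inr i) => iy m i

theorem fC_injective : Function.Injective (fC m) := by
  rintro (a | i | i) (b | j | j) h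
  · congr 1
    simp only [fC] at h
    split_ifs at h with h1 h2 h2
    · rw [h1, h2]
    · exact absurd h (zero_ne_last m)
    · exact absurd h.symm (zero_ne_last m)
    · omega
  · exfalso
    simp only [fC] at h
    split_ifs at h
    · exact ix_ne_zero j h.symm
    · exact ix_ne_last j h.symm
  · exfalso
    simp only [fC] at h
    split_ifs at h
    · exact iy_ne_zero j h.symm
    · exact iy_ne_last j h.symm
  · exfalso
    simp only [fC] at h
    split_ifs at h
    · exact ix_ne_zero i h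
    · exact ix_ne_last i h
  · have h' : ix m i = ix m j := h
    rw [ix, ix] at h'
    have := lo_injective (Fin.succ_injective _ (Fin.castSucc_injective _ h'))
    rw [this]
  · exfalso
    have h' : ix m i = iy m j := h
    rw [ix, iy] at h'
    have := Fin.succ_injective _ (Fin.castSucc_injective _ h')
    simp only [lo, hi, Fin.mk.injEq] at this
    omega
  · exfalso
    simp only [fC] at h
    split_ifs at h
    · exact iy_ne_zero i h
    · exact iy_ne_last i h
  · exfalso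
    have h' : iy m i = ix m j := h
    rw [ix, iy] at h'
    have := Fin.succ_injective _ (Fin.castSucc_injective _ h')
    simp only [lo, hi, Fin.mk.injEq] at this
    omega
  · have h' : iy m i = iy m j := h
    rw [iy, iy] at h'
    have := hi_injective (Fin.succ_injective _ (Fin.castSucc_injective _ h'))
    rw [this]

/-- the numbering of the coordinates -/
noncomputable def eC : Fin 2 ⊕ (Fin m ⊕ Fin m) ≃ Fin (2 * m + 1 + 1) :=
  Equiv.ofBijective (fC m) ((Fintype.bijective_iff_injective_and_card _).2 ⟨fC_injective m, by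
    simp only [Fintype.card_sum, Fintype.card_fin]
    omega⟩)

theorem eC_zero : eC m (Sum.inl 0) = 0 := rfl
theorem eC_one : eC m (Sum.inl 1) = Fin.last _ := rfl
theorem eC_x (i : Fin m) : eC m (Sum.inr (Sum.inl i)) = ix m i := rfl
theorem eC_y (i : Fin m) : eC m (Sum.inr (Sum.inr i)) = iy m i := rfl

variable (k : Type u) [CommRing k]

theorem spl_eq : spl k m = H527.Quad.qg k (eC m) := Subtype.ext rfl

theorem swE_eq (j : Fin (2 * m + 1 + 1)) : H527.Quad.swE (eC m) j = tr m j := by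
  obtain ⟨c, rfl⟩ := (eC m).surjective j
  rw [H527.Quad.swE]
  rcases c with a | i | i
  · fin_cases a
    · simp only [Equiv.trans_apply, Equiv.symm_apply_apply]
      change eC m (Sum.inl (H527.Quad.op 0)) = tr m (eC m (Sum.inl 0))
      rw [H527.Quad.op_zero, eC_one, eC_zero, tr_zero]
    · simp only [Equiv.trans_apply, Equiv.symm_apply_apply]
      change eC m (Sum.inl (H527.Quad.op 1)) = tr m (eC m (Sum.inl 1))
      rw [H527.Quad.op_one, eC_one, eC_zero, tr_last]
  · simp only [Equiv.trans_apply, Equiv.symm_apply_apply]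
    change eC m (Sum.inr (Sum.inl i)) = tr m (eC m (Sum.inr (Sum.inl i)))
    rw [eC_x, tr_of_ne (ix_ne_zero i) (ix_ne_last i)]
  · simp only [Equiv.trans_apply, Equiv.symm_apply_apply]
    change eC m (Sum.inr (Sum.inr i)) = tr m (eC m (Sum.inr (Sum.inr i)))
    rw [eC_y, tr_of_ne (iy_ne_zero i) (iy_ne_last i)]

theorem sw_eq (p : MvPolynomial (Fin (2 * m + 1 + 1)) k) : sw k m p = H527.Quad.sw k (eC m) p := by
  rw [H527.Quad.sw_apply]
  have h : sw k m = ((rename (H527.Quad.swE (eC m)) : MvPolynomial (Fin (2 * m + 1 + 1)) k →ₐ[k] _) : _ →+* _) := by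
    apply MvPolynomial.ringHom_ext
    · intro a
      simp
    · intro j
      rw [sub_X]
      change X (tr m j) = rename (H527.Quad.swE (eC m)) (X j)
      rw [rename_X, swE_eq]
  rw [h]
  rfl

theorem swp_emb : swp k m ≫ emb (spl k m) = emb (spl k m) ≫ H527.Quad.tauP k (eC m) := by
  have e1 := H527.QuotProj.map_map (prG (spl k m)) (slG (isSub_sw k m))
    ((slG (isSub_sw k m)).comp (prG (spl k m))) (fun _ => rfl)
    (irrelevant_le_map (degSurj_prG (spl k m))) (irrelevant_le_slG (isSub_sw k m)) 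
    (HomogeneousIdeal.irrelevant_le_map_comp (irrelevant_le_map (degSurj_prG (spl k m))) (irrelevant_le_slG (isSub_sw k m)))
  have e2 := H527.QuotProj.map_map (H527.Quad.sw k (eC m)) (prG (spl k m))
    ((slG (isSub_sw k m)).comp (prG (spl k m))) (fun p => congrArg (Ideal.Quotient.mk _) (sw_eq m k p).symm)
    (irrelevant_le_map (H527.Quad.degSurj_sw k (eC m))) (irrelevant_le_map (degSurj_prG (spl k m)))
    (HomogeneousIdeal.irrelevant_le_map_comp (irrelevant_le_map (degSurj_prG (spl k m))) (irrelevant_le_slG (isSub_sw k m)))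
  exact e1.trans e2.symm

theorem eq_swp (t : Hyp (spl k m) ⟶ Hyp (spl k m))
    (ht : t ≫ emb (spl k m) = emb (spl k m) ≫ H527.Quad.tauP k (eC m)) : t = swp k m := by
  rw [← cancel_mono (emb (spl k m)), ht, swp_emb]

theorem exists_of_eq (ℓ : ℕ) (q' : ↥(CohB1.polyGrading (2 * m + 1) k 2)) (h : spl k m = q')
    (t : Hyp q' ⟶ Hyp q') (ht : t ≫ emb q' = emb q' ≫ H527.Quad.tauP k (eC m))
    (b : ∀ ν : ℕ, HH (Hyp q') (EtCoh.const _ (ZMod (ℓ ^ ν))) (2 * m))
    (hred : ∀ ν, HHmap (EtAdic.red _ ℓ ν) (2 * m) (b (ν + 1)) = b ν)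
    (hN : ∀ ν N : ℕ, N • (HC (ZMod (ℓ ^ ν)) t (2 * m) (b ν) - b ν) = 0 → ℓ ^ ν ∣ N) :
    ∃ b₀ : ∀ ν : ℕ, HH (Hyp (spl k m)) (EtCoh.const _ (ZMod (ℓ ^ ν))) (2 * m),
      (∀ ν, HHmap (EtAdic.red _ ℓ ν) (2 * m) (b₀ (ν + 1)) = b₀ ν) ∧
      ∀ ν N : ℕ, N • (HC (ZMod (ℓ ^ ν)) (swp k m) (2 * m) (b₀ ν) - b₀ ν) = 0 → ℓ ^ ν ∣ N := by
  subst h
  rw [eq_swp m k t ht] at hN
  exact ⟨b, hred, hN⟩

/-- The class on the split quadric in the model of `H527`. -/
theorem exists_input (ℓ : ℕ)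
    (b : ∀ ν : ℕ, HH (H527.QuotProj.P (H527.Quad.J k (eC m) 0)) (EtCoh.const _ (ZMod (ℓ ^ ν))) (2 * m))
    (hred : ∀ ν, HHmap (EtAdic.red _ ℓ ν) (2 * m) (b (ν + 1)) = b ν)
    (hN : ∀ ν N : ℕ, N • (HC (ZMod (ℓ ^ ν)) (H527.Quad.tau k (eC m)) (2 * m) (b ν) - b ν) = 0 → ℓ ^ ν ∣ N) :
    ∃ b₀ : ∀ ν : ℕ, HH (Hyp (spl k m)) (EtCoh.const _ (ZMod (ℓ ^ ν))) (2 * m),
      (∀ ν, HHmap (EtAdic.red _ ℓ ν) (2 * m) (b₀ (ν + 1)) = b₀ ν) ∧
      ∀ ν N : ℕ, N • (HC (ZMod (ℓ ^ ν)) (swp k m) (2 * m) (b₀ ν) - b₀ ν) = 0 → ℓ ^ ν ∣ N :=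
  exists_of_eq m k ℓ (H527.Quad.qg k (eC m)) (spl_eq m k) (H527.Quad.tau k (eC m))
    (H527.Quad.tau_em k (eC m)) b hred hN

end Groth.Agent.Lefpen.H40.Convert
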