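import Groth.Agent.Lefpen.H40.SemiMap
import Groth.Agent.Lefpen.H724.Quad

/-!
# The geometric generic quadric as base change of the split quadric over the constants

`k → R → Ω`, `α β : Ω` the roots of `T² + b T + c` (`α + β = -b`, `α β = c`, `α ≠ β`):

* `spl k m` the form `X_0 X_last + ∑ X_{i} X_{m+i}`, `Qk = Hyp (spl k m)`, `swp : Qk ⟶ Qk` exchanging
  `X_0` and `X_last`;
* `piQ : PΩ R m b c Ω ⟶ Qk`, `isPullback_piQ`, `act_piQ : act σ ≫ piQ = piQ ≫ swp` if `σ` exchanges the roots.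
-/

set_option autoImplicit false

open CategoryTheory CategoryTheory.Limits AlgebraicGeometry MvPolynomial
open Groth.Agent.Lefpen.H713.HypProj Groth.Agent.Lefpen.H713.HypIso
open Groth.Agent.Vancyc.H517.HypBC Groth.Agent.Vancyc.H517.Homog
open Groth.Agent.Vancyc.H694.StdT Groth.Agent.Lefpen.H724.Quad
open Groth.Agent.Lefpen.H40.SemiMap

universe u

namespace Groth.Agent.Lefpen.H40.QuadSub

section Homog

variable {A : Type*} [CommRing A] {n : ℕ}

theorem homog_add (N : ℕ) (p q : MvPolynomial (Fin n) A) : homog N (p + q) = homog N p + homog N q := by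
  rw [homog, homog, homog, ← Finset.sum_add_distrib]
  refine Finset.sum_congr rfl fun e _ => ?_
  rw [map_add, map_add, mul_add]

theorem homog_of_isHomogeneous {N e : ℕ} (he : e ≤ N) {p : MvPolynomial (Fin n) A} (hp : p.IsHomogeneous e) :
    homog N p = X (Fin.last n) ^ (N - e) * rename Fin.castSucc p := by
  rw [homog, Finset.sum_eq_single e]
  · rw [homogeneousComponent_of_mem hp, if_pos rfl]
  · intro e' _ h
    rw [homogeneousComponent_of_mem hp, if_neg h, map_zero, mul_zero]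
  · intro h
    exact absurd (Finset.mem_range.mpr (Nat.lt_succ_iff.mpr he)) h

end Homog

section Forms

variable (A : Type u) [CommRing A] (m : ℕ)

/-- the index of `x_i` -/
def ix (i : Fin m) : Fin (2 * m + 1 + 1) := Fin.castSucc (Fin.succ (lo m i))

/-- the index of `y_i` -/
def iy (i : Fin m) : Fin (2 * m + 1 + 1) := Fin.castSucc (Fin.succ (hi m i))

/-- the hyperbolic part -/
noncomputable def hyp : MvPolynomial (Fin (2 * m + 1 + 1)) A := ∑ i : Fin m, X (ix m i) * X (iy m i)

variable {m} in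
theorem ix_ne_zero (i : Fin m) : ix m i ≠ 0 := by
  rw [ix, Ne, Fin.ext_iff]; simp

variable {m} in
theorem iy_ne_zero (i : Fin m) : iy m i ≠ 0 := by
  rw [iy, Ne, Fin.ext_iff]; simp

variable {m} in
theorem ix_ne_last (i : Fin m) : ix m i ≠ Fin.last _ := (Fin.castSucc_lt_last _).ne

variable {m} in
theorem iy_ne_last (i : Fin m) : iy m i ≠ Fin.last _ := (Fin.castSucc_lt_last _).ne

theorem zero_ne_last : (0 : Fin (2 * m + 1 + 1)) ≠ Fin.last _ := by
  rw [Ne, Fin.ext_iff]; simp

theorem hyp_isHomogeneous : (hyp A m).IsHomogeneous 2 := by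
  apply IsHomogeneous.sum
  intro i _
  exact (isHomogeneous_X A _).mul (isHomogeneous_X A _)

/-- the split form -/
noncomputable def spl : ↥(CohB1.polyGrading (2 * m + 1) A 2) :=
  ⟨X 0 * X (Fin.last _) + hyp A m,
    ((isHomogeneous_X A 0).mul (isHomogeneous_X A (Fin.last _))).add (hyp_isHomogeneous A m)⟩

variable {A}

theorem qf_val (b c : A) : (qf A m b c).1 =
    X 0 ^ 2 + C b * X 0 * X (Fin.last _) + C c * X (Fin.last _) ^ 2 + hyp A m := by
  have h0 : (C c : MvPolynomial (Fin (2 * m + 1)) A).IsHomogeneous 0 := isHomogeneous_C _ c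
  have h1 : (C b * X 0 : MvPolynomial (Fin (2 * m + 1)) A).IsHomogeneous 1 := by
    have := (isHomogeneous_C (Fin (2 * m + 1)) b).mul (isHomogeneous_X A (0 : Fin (2 * m + 1)))
    rwa [zero_add] at this
  have h2 : (X 0 ^ 2 : MvPolynomial (Fin (2 * m + 1)) A).IsHomogeneous 2 := by
    have := (isHomogeneous_X A (0 : Fin (2 * m + 1))).pow 2
    rwa [one_mul] at this
  have h3 : (rename Fin.succ (VanCyc.quadPoly (stdT A m)) : MvPolynomial (Fin (2 * m + 1)) A).IsHomogeneous 2 :=
    (isHomogeneous_quadPoly (stdT A m)).rename_isHomogeneous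
  change homog 2 (VanCyc.degQuadPoly A (stdT A m) b c) = _
  rw [VanCyc.degQuadPoly, homog_add, homog_add, homog_add, homog_of_isHomogeneous le_rfl h2,
    homog_of_isHomogeneous (by norm_num) h1, homog_of_isHomogeneous (by norm_num) h0,
    homog_of_isHomogeneous le_rfl h3, quadPoly_stdT]
  simp only [map_sum, map_mul, map_pow, rename_X, rename_C, hyp, ix, iy, Nat.sub_self, pow_zero, one_mul,
    Fin.castSucc_zero']
  ring

end Forms

section Subst

variable {k R Ω : Type u} [CommRing k] [CommRing R] [Field Ω] (φ₀ : k →+* Ω) (φ : R →+* Ω) (m : ℕ) (b c : R)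
  (α β : Ω)

/-- the coordinates `z - α w`, `z - β w`, `x_i`, `y_i` -/
noncomputable def lc (j : Fin (2 * m + 1 + 1)) : MvPolynomial (Fin (2 * m + 1 + 1)) Ω :=
  if j = 0 then X 0 - C α * X (Fin.last _) else if j = Fin.last _ then X 0 - C β * X (Fin.last _) else X j

theorem lc_zero : lc m α β 0 = X 0 - C α * X (Fin.last _) := if_pos rfl

theorem lc_last : lc m α β (Fin.last _) = X 0 - C β * X (Fin.last _) := by
  rw [lc, if_neg (zero_ne_last m).symm, if_pos rfl]

theorem lc_of_ne {j : Fin (2 * m + 1 + 1)} (h0 : j ≠ 0) (h1 : j ≠ Fin.last _) : lc m α β j = X j := by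
  rw [lc, if_neg h0, if_neg h1]

theorem isHomogeneous_lc (j : Fin (2 * m + 1 + 1)) : (lc m α β j).IsHomogeneous 1 := by
  have h : ∀ γ : Ω, (X 0 - C γ * X (Fin.last _) : MvPolynomial (Fin (2 * m + 1 + 1)) Ω).IsHomogeneous 1 := by
    intro γ
    have := (isHomogeneous_C (Fin (2 * m + 1 + 1)) γ).mul (isHomogeneous_X Ω (Fin.last (2 * m + 1)))
    rw [zero_add] at this
    exact (isHomogeneous_X Ω 0).sub this
  rw [lc]
  split_ifs
  · exact h α
  · exact h β
  · exact isHomogeneous_X Ω j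

/-- the coordinates `z`, `w` in terms of `u = z - α w`, `v = z - β w` -/
noncomputable def li (j : Fin (2 * m + 1 + 1)) : MvPolynomial (Fin (2 * m + 1 + 1)) Ω :=
  if j = 0 then C (β / (β - α)) * X 0 - C (α / (β - α)) * X (Fin.last _)
  else if j = Fin.last _ then C (1 / (β - α)) * X 0 - C (1 / (β - α)) * X (Fin.last _) else X j

theorem li_zero : li m α β 0 = C (β / (β - α)) * X 0 - C (α / (β - α)) * X (Fin.last _) := if_pos rfl

theorem li_last : li m α β (Fin.last _) = C (1 / (β - α)) * X 0 - C (1 / (β - α)) * X (Fin.last _) := by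
  rw [li, if_neg (zero_ne_last m).symm, if_pos rfl]

theorem li_of_ne {j : Fin (2 * m + 1 + 1)} (h0 : j ≠ 0) (h1 : j ≠ Fin.last _) : li m α β j = X j := by
  rw [li, if_neg h0, if_neg h1]

theorem isHomogeneous_li (j : Fin (2 * m + 1 + 1)) : (li m α β j).IsHomogeneous 1 := by
  have h : ∀ γ δ : Ω, (C γ * X 0 - C δ * X (Fin.last _) :
      MvPolynomial (Fin (2 * m + 1 + 1)) Ω).IsHomogeneous 1 := by
    intro γ δ
    have h1 := (isHomogeneous_C (Fin (2 * m + 1 + 1)) γ).mul (isHomogeneous_X Ω 0)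
    have h2 := (isHomogeneous_C (Fin (2 * m + 1 + 1)) δ).mul (isHomogeneous_X Ω (Fin.last (2 * m + 1)))
    rw [zero_add] at h1 h2
    exact h1.sub h2
  rw [li]
  split_ifs
  · exact h _ _
  · exact h _ _
  · exact isHomogeneous_X Ω j

variable {α β}

theorem sub_lc_li (h : α ≠ β) : (sub (RingHom.id Ω) (lc m α β)).comp (sub (RingHom.id Ω) (li m α β)) = RingHom.id _ := by
  have hd : β - α ≠ 0 := sub_ne_zero.mpr h.symm
  apply MvPolynomial.ringHom_ext
  · intro a
    simp
  · intro j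
    rw [RingHom.comp_apply, sub_X, RingHom.id_apply]
    by_cases h0 : j = 0
    · subst h0
      rw [li_zero, map_sub, map_mul, map_mul, sub_C, sub_C, sub_X, sub_X, lc_zero, lc_last, RingHom.id_apply,
        RingHom.id_apply]
      have e : (C (β / (β - α)) - C (α / (β - α)) : MvPolynomial (Fin (2 * m + 1 + 1)) Ω) = 1 := by
        rw [← C_sub, ← sub_div, div_self hd, C_1]
      have e2 : (C (β / (β - α)) * C α - C (α / (β - α)) * C β : MvPolynomial (Fin (2 * m + 1 + 1)) Ω) = 0 := by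
        rw [← C_mul, ← C_mul, ← C_sub]
        rw [show β / (β - α) * α - α / (β - α) * β = 0 by ring, C_0]
      linear_combination (X 0) * e - X (Fin.last _) * e2
    · by_cases h1 : j = Fin.last _
      · subst h1
        rw [li_last, map_sub, map_mul, map_mul, sub_C, sub_X, sub_X, lc_zero, lc_last, RingHom.id_apply]
        have e : (C (1 / (β - α)) * (C β - C α) : MvPolynomial (Fin (2 * m + 1 + 1)) Ω) = 1 := by
          rw [← C_sub, ← C_mul, one_div, inv_mul_cancel₀ hd, C_1]
        linear_combination (X (Fin.last _)) * e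
      · rw [li_of_ne m α β h0 h1, sub_X, lc_of_ne m α β h0 h1]

theorem sub_li_lc (h : α ≠ β) : (sub (RingHom.id Ω) (li m α β)).comp (sub (RingHom.id Ω) (lc m α β)) = RingHom.id _ := by
  have hd : β - α ≠ 0 := sub_ne_zero.mpr h.symm
  have e : (C (1 / (β - α)) * (C β - C α) : MvPolynomial (Fin (2 * m + 1 + 1)) Ω) = 1 := by
    rw [← C_sub, ← C_mul, one_div, inv_mul_cancel₀ hd, C_1]
  have eb : (C (β / (β - α)) : MvPolynomial (Fin (2 * m + 1 + 1)) Ω) = C (1 / (β - α)) * C β := by
    rw [← C_mul]; congr 1; ring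
  have ea : (C (α / (β - α)) : MvPolynomial (Fin (2 * m + 1 + 1)) Ω) = C (1 / (β - α)) * C α := by
    rw [← C_mul]; congr 1; ring
  apply MvPolynomial.ringHom_ext
  · intro a
    simp
  · intro j
    rw [RingHom.comp_apply, sub_X, RingHom.id_apply]
    by_cases h0 : j = 0
    · subst h0
      rw [lc_zero, map_sub, map_mul, sub_C, sub_X, sub_X, li_zero, li_last, RingHom.id_apply, eb, ea]
      linear_combination (X 0) * e
    · by_cases h1 : j = Fin.last _
      · subst h1
        rw [lc_last, map_sub, map_mul, sub_C, sub_X, sub_X, li_zero, li_last, RingHom.id_apply, eb, ea]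
        linear_combination (X (Fin.last _)) * e
      · rw [lc_of_ne m α β h0 h1, sub_X, li_of_ne m α β h0 h1]

variable {φ b c}

theorem map_hyp {A B : Type u} [CommRing A] [CommRing B] (ψ : A →+* B) :
    MvPolynomial.map ψ (hyp A m) = hyp B m := by
  simp only [hyp, map_sum, map_mul, map_X]

theorem sub_hyp {A B : Type u} [CommRing A] [CommRing B] (ψ : A →+* B)
    (l : Fin (2 * m + 1 + 1) → MvPolynomial (Fin (2 * m + 1 + 1)) B) (hl : ∀ j, j ≠ 0 → j ≠ Fin.last _ → l j = X j) :
    sub ψ l (hyp A m) = hyp B m := by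
  simp only [hyp, map_sum, map_mul, sub_X]
  refine Finset.sum_congr rfl fun i _ => ?_
  rw [hl _ (ix_ne_zero i) (ix_ne_last i), hl _ (iy_ne_zero i) (iy_ne_last i)]

theorem sub_lc_spl {A : Type u} [CommRing A] (ψ : A →+* Ω) (h1 : α + β = - φ b) (h2 : α * β = φ c) :
    sub ψ (lc m α β) (spl A m).1 = (mapForm φ (qf R m b c)).1 := by
  change sub ψ (lc m α β) (X 0 * X (Fin.last _) + hyp A m) = MvPolynomial.map φ (qf R m b c).1
  rw [qf_val, map_add, map_mul, sub_X, sub_X, lc_zero, lc_last, sub_hyp m ψ _ (fun j => lc_of_ne m α β)]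
  simp only [map_add, map_mul, map_pow, map_X, map_C, map_hyp]
  have e1 : (C α + C β : MvPolynomial (Fin (2 * m + 1 + 1)) Ω) = - C (φ b) := by
    rw [← C_add, h1, C_neg]
  have e2 : (C α * C β : MvPolynomial (Fin (2 * m + 1 + 1)) Ω) = C (φ c) := by
    rw [← C_mul, h2]
  linear_combination (- X 0 * X (Fin.last _)) * e1 + X (Fin.last _) ^ 2 * e2

/-- membership of the variables, from a right inverse substitution -/
theorem mem_span_of_inv {n : ℕ} {A B : Type u} [CommRing A] [CommRing B] (ψ : A →+* B)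
    (l l' : Fin (n + 1) → MvPolynomial (Fin (n + 1)) B) (hl' : ∀ j, (l' j).IsHomogeneous 1)
    (h : ∀ j, sub (RingHom.id B) l (l' j) = X j) (j : Fin (n + 1)) :
    (X j : MvPolynomial (Fin (n + 1)) B) ∈ Ideal.span (Set.range (fun i => sub ψ l (X i))) := by
  have h1 := Groth.Agent.CohqB.ProjBC.mem_span_X_of_pos n one_pos (l' j) (hl' j)
  have h2 : Ideal.span (Set.range (X : Fin (n + 1) → MvPolynomial (Fin (n + 1)) B)) ≤
      (Ideal.span (Set.range (fun i => sub ψ l (X i)))).comap (sub (RingHom.id B) l) := by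
    rw [Ideal.span_le]
    rintro _ ⟨i, rfl⟩
    change sub (RingHom.id B) l (X i) ∈ Ideal.span (Set.range (fun i => sub ψ l (X i)))
    rw [sub_X]
    exact Ideal.subset_span ⟨i, sub_X _ _ _⟩
  have h3 := h2 h1
  rw [Ideal.mem_comap, h] at h3
  exact h3

theorem isSub_lc {A : Type u} [CommRing A] (ψ : A →+* Ω) (h1 : α + β = - φ b) (h2 : α * β = φ c) (h3 : α ≠ β) :
    IsSub ψ (spl A m) (mapForm φ (qf R m b c)) (sub ψ (lc m α β)) where
  hC a := sub_C _ _ _
  hgr e p hp := sub_hgr ψ _ (isHomogeneous_lc m α β) e p hp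
  hq := by
    rw [sub_lc_spl m ψ h1 h2]
    exact Ideal.mem_span_singleton_self _
  hX j := mem_span_of_inv ψ (lc m α β) (li m α β) (isHomogeneous_li m α β) (fun j => by
    have h := congrArg (fun f => f (X j)) (sub_lc_li m h3)
    simpa using h) j

theorem isSub_li (h1 : α + β = - φ b) (h2 : α * β = φ c) (h3 : α ≠ β) :
    IsSub (RingHom.id Ω) (mapForm φ (qf R m b c)) (spl Ω m) (sub (RingHom.id Ω) (li m α β)) where
  hC a := sub_C _ _ _
  hgr e p hp := sub_hgr _ _ (isHomogeneous_li m α β) e p hp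
  hq := by
    rw [← sub_lc_spl m (RingHom.id Ω) h1 h2]
    have h := congrArg (fun f => f (spl Ω m).1) (sub_li_lc m h3)
    change sub (RingHom.id Ω) (li m α β) (sub (RingHom.id Ω) (lc m α β) (spl Ω m).1) = _ at h
    rw [h]
    exact Ideal.mem_span_singleton_self _
  hX j := mem_span_of_inv _ (li m α β) (lc m α β) (isHomogeneous_lc m α β) (fun j => by
    have h := congrArg (fun f => f (X j)) (sub_li_lc m h3)
    simpa using h) j

end Subst

section OfEq

variable {n : ℕ} {A B : Type u} [CommRing A] [CommRing B] {d d' : ℕ} {φ : A →+* B}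
  {q : ↥(CohB1.polyGrading n A d)} {q' : ↥(CohB1.polyGrading n B d')}
  {F : MvPolynomial (Fin (n + 1)) A →+* MvPolynomial (Fin (n + 1)) B}

theorem isSub_of_eq_left (h : IsSub φ q q' F) (s : ↥(CohB1.polyGrading n A d)) (hs : s.1 = q.1) :
    IsSub φ s q' F where
  hC := h.hC
  hgr := h.hgr
  hq := by rw [hs]; exact h.hq
  hX := h.hX

theorem isSub_of_eq_right (h : IsSub φ q q' F) (s : ↥(CohB1.polyGrading n B d')) (hs : s.1 = q'.1) :
    IsSub φ q s F where
  hC := h.hC
  hgr := h.hgr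
  hq := by rw [hs]; exact h.hq
  hX := h.hX

end OfEq

section Swap

variable (k : Type u) [CommRing k] (m : ℕ)

/-- the transposition of the first and the last variable -/
def tr : Equiv.Perm (Fin (2 * m + 1 + 1)) := Equiv.swap 0 (Fin.last _)

theorem tr_zero : tr m 0 = Fin.last _ := Equiv.swap_apply_left _ _

theorem tr_last : tr m (Fin.last _) = 0 := Equiv.swap_apply_right _ _

variable {m} in
theorem tr_of_ne {j : Fin (2 * m + 1 + 1)} (h0 : j ≠ 0) (h1 : j ≠ Fin.last _) : tr m j = j :=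
  Equiv.swap_apply_of_ne_of_ne h0 h1

theorem tr_tr (j : Fin (2 * m + 1 + 1)) : tr m (tr m j) = j := by simp [tr]

/-- the substitution exchanging the first and the last variable -/
noncomputable abbrev sw : MvPolynomial (Fin (2 * m + 1 + 1)) k →+* MvPolynomial (Fin (2 * m + 1 + 1)) k :=
  sub (RingHom.id k) (fun j => X (tr m j))

theorem isSub_sw : IsSub (RingHom.id k) (spl k m) (spl k m) (sw k m) where
  hC a := sub_C _ _ _
  hgr e p hp := sub_hgr _ _ (fun j => isHomogeneous_X k _) e p hp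
  hq := by
    have e : sw k m (spl k m).1 = (spl k m).1 := by
      change sw k m (X 0 * X (Fin.last _) + hyp k m) = X 0 * X (Fin.last _) + hyp k m
      rw [map_add, map_mul, sub_X, sub_X, tr_zero, tr_last,
        sub_hyp m _ _ (fun j h0 h1 => by rw [tr_of_ne h0 h1]),
        mul_comm (X (Fin.last (2 * m + 1)) : MvPolynomial (Fin (2 * m + 1 + 1)) k)]
    rw [e]
    exact Ideal.mem_span_singleton_self _
  hX j := Ideal.subset_span ⟨tr m j, by
    change sw k m (X (tr m j)) = X j
    rw [sub_X, tr_tr]⟩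

/-- the involution exchanging the first and the last coordinate -/
noncomputable def swp : Hyp (spl k m) ⟶ Hyp (spl k m) := sl (isSub_sw k m)

theorem swp_swp : swp k m ≫ swp k m = 𝟙 _ := by
  have e : (sw k m).comp (sw k m) = RingHom.id _ := by
    apply MvPolynomial.ringHom_ext
    · intro a
      simp
    · intro j
      rw [RingHom.comp_apply, sub_X, sub_X, tr_tr, RingHom.id_apply]
  have h : IsSub (RingHom.id k) (spl k m) (spl k m) ((sw k m).comp (sw k m)) := by
    rw [e]
    exact ⟨fun a => rfl, fun e p hp => hp, Ideal.mem_span_singleton_self _, fun j => Ideal.subset_span ⟨j, rfl⟩⟩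
  rw [swp, sl_comp (isSub_sw k m) (isSub_sw k m) h]
  exact sl_eq_id h e

end Swap

section Main

variable {k R Ω : Type u} [CommRing k] [CommRing R] [Field Ω] [Algebra R Ω] (φ₀ : k →+* Ω) (m : ℕ) (b c : R)

/-- the base change as a hypersurface -/
noncomputable def isoP : PΩ R m b c Ω ≅ Hyp (mapForm (algebraMap R Ω) (qf R m b c)) :=
  (isPullback_bc (algebraMap R Ω) (qf R m b c)).isoPullback.symm

theorem isoP_bc : (isoP (Ω := Ω) m b c).hom ≫ bc (algebraMap R Ω) (qf R m b c) = pullback.fst _ _ :=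
  (isPullback_bc (algebraMap R Ω) (qf R m b c)).isoPullback_inv_fst

theorem isoP_toSpec : (isoP (Ω := Ω) m b c).hom ≫ toSpec (mapForm (algebraMap R Ω) (qf R m b c)) =
    pullback.snd _ _ :=
  (isPullback_bc (algebraMap R Ω) (qf R m b c)).isoPullback_inv_snd

theorem map_algEquiv_comp (σ : Ω ≃ₐ[R] Ω) : (MvPolynomial.map (σ : Ω →+* Ω)).comp
    (MvPolynomial.map (algebraMap R Ω)) = (MvPolynomial.map (σ := Fin (2 * m + 1 + 1)) (algebraMap R Ω)) := by
  apply MvPolynomial.ringHom_ext
  · intro r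
    simp
  · intro j
    simp

theorem isSub_act (σ : Ω ≃ₐ[R] Ω) : IsSub (σ : Ω →+* Ω) (mapForm (algebraMap R Ω) (qf R m b c))
    (mapForm (algebraMap R Ω) (qf R m b c)) (MvPolynomial.map (σ : Ω →+* Ω)) where
  hC a := map_C _ _
  hgr e p hp := IsHomogeneous.map hp _
  hq := by
    have h := congrArg (fun f => f (qf R m b c).1) (map_algEquiv_comp m σ)
    change MvPolynomial.map (σ : Ω →+* Ω) (mapForm (algebraMap R Ω) (qf R m b c)).1 =
      (mapForm (algebraMap R Ω) (qf R m b c)).1 at h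
    rw [h]
    exact Ideal.mem_span_singleton_self _
  hX j := Ideal.subset_span ⟨j, map_X _ _⟩

theorem act_isoP (σ : Ω ≃ₐ[R] Ω) : act R m b c Ω σ ≫ (isoP m b c).hom =
    (isoP m b c).hom ≫ sl (isSub_act m b c σ) := by
  refine (isPullback_bc (algebraMap R Ω) (qf R m b c)).hom_ext ?_ ?_
  · rw [Category.assoc, Category.assoc, isoP_bc, act_fst, bc_eq_sl,
      sl_comp (isSub_map (algebraMap R Ω) (qf R m b c)) (isSub_act m b c σ)
        (χ := algebraMap R Ω) (by rw [map_algEquiv_comp]; exact isSub_map _ _)]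
    rw [← isoP_bc, bc_eq_sl]
    congr 1
    exact (sl_congr _ _ (map_algEquiv_comp m σ)).symm
  · rw [Category.assoc, Category.assoc, isoP_toSpec, act_snd, sl_toSpec, ← Category.assoc, isoP_toSpec]

variable {b c} {α β : Ω} (h1 : α + β = - algebraMap R Ω b) (h2 : α * β = algebraMap R Ω c) (h3 : α ≠ β)

/-- the projection to the split quadric -/
noncomputable def piQ : PΩ R m b c Ω ⟶ Hyp (spl k m) := (isoP m b c).hom ≫ sl (isSub_lc m φ₀ h1 h2 h3)

theorem act_piQ (σ : Ω ≃ₐ[R] Ω) (h4 : σ α = β) (h5 : σ β = α) (h6 : ∀ a, σ (φ₀ a) = φ₀ a) :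
    act R m b c Ω σ ≫ piQ φ₀ m h1 h2 h3 = piQ φ₀ m h1 h2 h3 ≫ swp k m := by
  have e : (sub φ₀ (lc m α β)).comp (sw k m) = (MvPolynomial.map (σ : Ω →+* Ω)).comp (sub φ₀ (lc m α β)) := by
    apply MvPolynomial.ringHom_ext
    · intro a
      rw [RingHom.comp_apply, RingHom.comp_apply, sub_C, sub_C, sub_C, map_C]
      congr 1
      exact (h6 a).symm
    · intro j
      rw [RingHom.comp_apply, RingHom.comp_apply, sub_X, sub_X, sub_X]
      by_cases h0 : j = 0
      · subst h0
        rw [tr_zero, lc_zero, lc_last, map_sub, map_mul, map_X, map_X, map_C]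
        have : (σ : Ω →+* Ω) α = β := h4
        rw [this]
      · by_cases hl : j = Fin.last _
        · subst hl
          rw [tr_last, lc_zero, lc_last, map_sub, map_mul, map_X, map_X, map_C]
          have : (σ : Ω →+* Ω) β = α := h5
          rw [this]
        · rw [tr_of_ne h0 hl, lc_of_ne m α β h0 hl, map_X]
  have hs : IsSub φ₀ (spl k m) (mapForm (algebraMap R Ω) (qf R m b c)) ((sub φ₀ (lc m α β)).comp (sw k m)) := by
    refine ⟨fun a => ?_, fun e p hp => ?_, ?_, fun j => ?_⟩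
    · rw [RingHom.comp_apply, sub_C, sub_C]
      rfl
    · exact (isSub_lc m φ₀ h1 h2 h3).hgr e _ ((isSub_sw k m).hgr e p hp)
    · obtain ⟨r, hr⟩ := Ideal.mem_span_singleton.mp (isSub_sw k m).hq
      rw [RingHom.comp_apply, hr, map_mul]
      exact Ideal.mul_mem_right _ _ (isSub_lc m φ₀ h1 h2 h3).hq
    · refine Ideal.span_mono ?_ ((isSub_lc m φ₀ h1 h2 h3).hX j)
      rintro _ ⟨i, rfl⟩
      refine ⟨tr m i, ?_⟩
      change (sub φ₀ (lc m α β)) (sw k m (X (tr m i))) = _
      rw [sub_X, tr_tr]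
  have hs' : IsSub φ₀ (spl k m) (mapForm (algebraMap R Ω) (qf R m b c))
      ((MvPolynomial.map (σ : Ω →+* Ω)).comp (sub φ₀ (lc m α β))) := by
    rw [← e]
    exact hs
  rw [piQ, swp, ← Category.assoc, act_isoP, Category.assoc, Category.assoc]
  congr 1
  rw [sl_comp (isSub_lc m φ₀ h1 h2 h3) (isSub_act m b c σ) hs', sl_comp (isSub_sw k m) (isSub_lc m φ₀ h1 h2 h3) hs]
  exact (sl_congr _ _ e).symm

theorem mapForm_spl : (mapForm φ₀ (spl k m)).1 = (spl Ω m).1 := by
  change MvPolynomial.map φ₀ (X 0 * X (Fin.last _) + hyp k m) = X 0 * X (Fin.last _) + hyp Ω m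
  rw [map_add, map_mul, map_X, map_X, map_hyp]

include h1 h2 h3 in
theorem exists_iso_spl : ∃ e : Hyp (mapForm (algebraMap R Ω) (qf R m b c)) ≅ Hyp (mapForm φ₀ (spl k m)),
    e.hom ≫ bc φ₀ (spl k m) = sl (isSub_lc m φ₀ h1 h2 h3) ∧
      e.hom ≫ toSpec _ = toSpec _ := by
  have i1 := isSub_of_eq_left (isSub_lc m (RingHom.id Ω) h1 h2 h3) _ (mapForm_spl φ₀ m)
  have i2 := isSub_of_eq_right (isSub_li m h1 h2 h3) _ (mapForm_spl φ₀ m)
  have j1 : IsSub (RingHom.id Ω) (mapForm φ₀ (spl k m)) (mapForm φ₀ (spl k m))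
      ((sub (RingHom.id Ω) (li m α β)).comp (sub (RingHom.id Ω) (lc m α β))) := by
    rw [sub_li_lc m h3]
    exact ⟨fun a => rfl, fun e p hp => hp, Ideal.mem_span_singleton_self _, fun j => Ideal.subset_span ⟨j, rfl⟩⟩
  have j2 : IsSub (RingHom.id Ω) (mapForm (algebraMap R Ω) (qf R m b c)) (mapForm (algebraMap R Ω) (qf R m b c))
      ((sub (RingHom.id Ω) (lc m α β)).comp (sub (RingHom.id Ω) (li m α β))) := by
    rw [sub_lc_li m h3]
    exact ⟨fun a => rfl, fun e p hp => hp, Ideal.mem_span_singleton_self _, fun j => Ideal.subset_span ⟨j, rfl⟩⟩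
  refine ⟨⟨sl i1, sl i2, ?_, ?_⟩, ?_, ?_⟩
  · rw [sl_comp i2 i1 j2]
    exact sl_eq_id j2 (sub_lc_li m h3)
  · rw [sl_comp i1 i2 j1]
    exact sl_eq_id j1 (sub_li_lc m h3)
  · have e : (sub (RingHom.id Ω) (lc m α β)).comp (MvPolynomial.map φ₀) = sub φ₀ (lc m α β) := by
      apply MvPolynomial.ringHom_ext
      · intro a
        simp
      · intro j
        simp
    have i3 : IsSub φ₀ (spl k m) (mapForm (algebraMap R Ω) (qf R m b c))
        ((sub (RingHom.id Ω) (lc m α β)).comp (MvPolynomial.map φ₀)) := by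
      rw [e]
      exact isSub_lc m φ₀ h1 h2 h3
    change sl i1 ≫ bc φ₀ (spl k m) = _
    rw [bc_eq_sl, sl_comp (isSub_map φ₀ (spl k m)) i1 i3]
    exact sl_congr _ _ e
  · change sl i1 ≫ _ = _
    rw [sl_toSpec]
    have : CommRingCat.ofHom (RingHom.id Ω) = 𝟙 (CommRingCat.of Ω) := rfl
    rw [this, Spec.map_id, Category.comp_id]

theorem isPullback_piQ : IsPullback (piQ φ₀ m h1 h2 h3) (pullback.snd _ _) (toSpec (spl k m))
    (Spec.map (CommRingCat.ofHom φ₀)) := by
  obtain ⟨e, he1, he2⟩ := exists_iso_spl φ₀ m h1 h2 h3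
  have sq : IsPullback ((isoP m b c).hom ≫ e.hom) (pullback.snd _ _) (toSpec (mapForm φ₀ (spl k m))) (𝟙 _) :=
    IsPullback.of_horiz_isIso ⟨by rw [Category.assoc, he2, isoP_toSpec, Category.comp_id]⟩
  have h := sq.paste_horiz (isPullback_bc φ₀ (spl k m))
  rw [Category.assoc, he1, Category.id_comp] at h
  exact h

end Main

end Groth.Agent.Lefpen.H40.QuadSub
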