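import Groth.Agent.Lefpen.H713.HypIso
import Groth.Agent.Vancyc.H517.HypBC

/-!
# Morphisms of projective hypersurfaces from semilinear substitutions

For `φ : A →+* B`, forms `q` over `A`, `q'` over `B` and a ring map `F : A[X] →+* B[X]` over `φ`
preserving degrees, mapping `q` into `(q')` and such that the `F X_i` generate the irrelevant ideal
(`IsSub φ q q' F`):

* `sl h : Hyp q' ⟶ Hyp q`, `sl_toSpec : sl h ≫ toSpec q = toSpec q' ≫ Spec φ`;
* `sl_comp`, `sl_eq_id`, `sl_congr`, `bc_eq_sl`.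
-/

set_option autoImplicit false

open CategoryTheory AlgebraicGeometry MvPolynomial HomogeneousLocalization
open Groth.Agent.Sga5.ProjChart Groth.Agent.Sga5.ProjSmooth Groth.Agent.Sga5.ProjSurj
open Groth.Agent.Lefpen.H713.GrQuot Groth.Agent.Lefpen.H713.HypProj Groth.Agent.Lefpen.H713.HypIso
open Groth.Agent.Vancyc.H517.HypBC

universe u

namespace Groth.Agent.Lefpen.H40.SemiMap

section Gen

variable {R : Type u} [CommRing R] {R' : Type u} [CommRing R'] {A : Type u} [CommRing A] [Algebra R A]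
  (𝒜 : ℕ → Submodule R A) [GradedAlgebra 𝒜]
  {B : Type u} [CommRing B] [Algebra R' B] {ℬ : ℕ → Submodule R' B} [GradedAlgebra ℬ]

variable {𝒜}

theorem away_map_fromZero (f : 𝒜 →+*ᵍ ℬ) (φ : R →+* R')
    (hR : ∀ r : R, f (algebraMap R A r) = algebraMap R' B (φ r))
    (s : A) (r : R) : Away.map f s (fromZeroRingHom 𝒜 _ (algebraMap R (𝒜 0) r)) =
      fromZeroRingHom ℬ _ (algebraMap R' (ℬ 0) (φ r)) := by
  apply HomogeneousLocalization.val_injective
  change (HomogeneousLocalization.mk _).val = (HomogeneousLocalization.mk _).val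
  rw [HomogeneousLocalization.val_mk, HomogeneousLocalization.val_mk, Localization.mk_eq_mk_iff,
    Localization.r_iff_exists]
  refine ⟨1, ?_⟩
  change (1 : B) * ((1 : B) * f (algebraMap R A r)) = 1 * (f 1 * algebraMap R' B (φ r))
  rw [hR, map_one]

theorem map_pS_semi (f : 𝒜 →+*ᵍ ℬ)
    (hf : HomogeneousIdeal.irrelevant ℬ ≤ (HomogeneousIdeal.irrelevant 𝒜).map f) (φ : R →+* R')
    (hR : ∀ r : R, f (algebraMap R A r) = algebraMap R' B (φ r)) :
    Proj.map f hf ≫ pS 𝒜 = pS ℬ ≫ Spec.map (CommRingCat.ofHom φ) := by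
  refine (Proj.mapAffineOpenCover f hf).openCover.hom_ext _ _ fun s => ?_
  change Proj.awayι ℬ (f s.2) (f.2 s.2.2) s.1.2 ≫ _ = Proj.awayι ℬ (f s.2) (f.2 s.2.2) s.1.2 ≫ _
  refine (Proj.awayι_comp_map_assoc f hf s.1.2 s.2.1 s.2.2 (pS 𝒜)).trans ?_
  refine (congrArg (fun t => Spec.map (CommRingCat.ofHom (Away.map f s.2.1)) ≫ t)
    (awayι_pS s.1.2 s.2.1 s.2.2)).trans ?_
  refine Eq.trans ?_ (awayι_pS_assoc (𝒜 := ℬ) s.1.2 (f s.2.1) (f.2 s.2.2) _).symm
  rw [← Spec.map_comp, ← Spec.map_comp]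
  congr 1
  apply CommRingCat.hom_ext
  apply RingHom.ext
  intro r
  exact away_map_fromZero f φ hR s.2.1 r

end Gen

section Sub

variable {n : ℕ} {A B D : Type u} [CommRing A] [CommRing B] [CommRing D] {d d' d'' : ℕ} (φ : A →+* B)
  (q : ↥(CohB1.polyGrading n A d)) (q' : ↥(CohB1.polyGrading n B d')) (q'' : ↥(CohB1.polyGrading n D d''))
  (F : MvPolynomial (Fin (n + 1)) A →+* MvPolynomial (Fin (n + 1)) B)

/-- a semilinear substitution carrying the form `q` into the ideal of `q'` -/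
structure IsSub : Prop where
  hC : ∀ a, F (C a) = C (φ a)
  hgr : ∀ e, ∀ p ∈ CohB1.polyGrading n A e, F p ∈ CohB1.polyGrading n B e
  hq : F q.1 ∈ Ideal.span {q'.1}
  hX : ∀ j, (X j : MvPolynomial (Fin (n + 1)) B) ∈ Ideal.span (Set.range (fun i => F (X i)))

variable {φ q q' q'' F} (h : IsSub φ q q' F)

/-- the map of coordinate rings -/
noncomputable def slQ : CR q →+* CR q' :=
  Ideal.Quotient.lift _ ((Ideal.Quotient.mk (Ideal.span {q'.1})).comp F) (by
    intro a ha
    rw [Ideal.mem_span_singleton] at ha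
    obtain ⟨b, rfl⟩ := ha
    rw [RingHom.comp_apply, Ideal.Quotient.eq_zero_iff_mem, map_mul]
    exact Ideal.mul_mem_right _ _ h.hq)

theorem slQ_mk (p : MvPolynomial (Fin (n + 1)) A) :
    slQ h (Ideal.Quotient.mk _ p) = Ideal.Quotient.mk _ (F p) := rfl

/-- the graded map of coordinate rings -/
noncomputable def slG : gr q →+*ᵍ gr q' where
  toRingHom := slQ h
  map_mem := by
    rintro e _ ⟨p, hp, rfl⟩
    exact ⟨F p, h.hgr e p hp, rfl⟩

theorem slG_mk (p : MvPolynomial (Fin (n + 1)) A) :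
    slG h (Ideal.Quotient.mk _ p) = Ideal.Quotient.mk _ (F p) := rfl

theorem irrelevant_le_slG : HomogeneousIdeal.irrelevant (gr q') ≤
    (HomogeneousIdeal.irrelevant (gr q)).map (slG h) := by
  apply (HomogeneousIdeal.irrelevant_le _).mpr
  rintro i hi _ ⟨x, hx, rfl⟩
  have h1 := Groth.Agent.CohqB.ProjBC.mem_span_X_of_pos n hi x hx
  have h2 : Ideal.span (Set.range (fun i => F (X i))) ≤
      (((HomogeneousIdeal.irrelevant (gr q)).map (slG h)).toIdeal).comap
        (Ideal.Quotient.mk (Ideal.span {q'.1})) := by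
    rw [Ideal.span_le]
    rintro _ ⟨j, rfl⟩
    change slG h (prG q (X j)) ∈ ((HomogeneousIdeal.irrelevant (gr q)).map (slG h)).toIdeal
    apply Ideal.mem_map_of_mem
    exact HomogeneousIdeal.mem_irrelevant_of_mem _ one_pos ((prG q).2 (X_mem n A j))
  have h3 : Ideal.span (Set.range (X : Fin (n + 1) → MvPolynomial (Fin (n + 1)) B)) ≤
      Ideal.span (Set.range (fun i => F (X i))) := by
    rw [Ideal.span_le]
    rintro _ ⟨j, rfl⟩
    exact h.hX j
  exact h2 (h3 h1)

/-- the induced morphism of hypersurfaces -/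
noncomputable def sl : Hyp q' ⟶ Hyp q := Proj.map (slG h) (irrelevant_le_slG h)

theorem sl_toSpec : sl h ≫ toSpec q = toSpec q' ≫ Spec.map (CommRingCat.ofHom φ) := by
  rw [toSpec_eq_pS, toSpec_eq_pS]
  exact map_pS_semi (slG h) (irrelevant_le_slG h) φ (fun r => by
    change Ideal.Quotient.mk (Ideal.span {q'.1}) (F (C r)) = Ideal.Quotient.mk _ (C (φ r))
    rw [h.hC])

theorem sl_congr {F' : MvPolynomial (Fin (n + 1)) A →+* MvPolynomial (Fin (n + 1)) B} {φ' : A →+* B}
    (h' : IsSub φ' q q' F') (e : F = F') : sl h = sl h' := by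
  subst e
  rfl

theorem map_eq_map {g g' : gr q →+*ᵍ gr q'}
    (hg : HomogeneousIdeal.irrelevant (gr q') ≤ (HomogeneousIdeal.irrelevant (gr q)).map g)
    (hg' : HomogeneousIdeal.irrelevant (gr q') ≤ (HomogeneousIdeal.irrelevant (gr q)).map g')
    (e : ∀ p, g (Ideal.Quotient.mk _ p) = g' (Ideal.Quotient.mk _ p)) :
    Proj.map g hg = Proj.map g' hg' := by
  have h1 : g = g' := by
    apply DFunLike.ext
    intro x
    obtain ⟨p, rfl⟩ := Ideal.Quotient.mk_surjective x
    exact e p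
  subst h1
  rfl

theorem sl_comp {ψ : B →+* D} {G : MvPolynomial (Fin (n + 1)) B →+* MvPolynomial (Fin (n + 1)) D}
    (h' : IsSub ψ q' q'' G) {χ : A →+* D} (h'' : IsSub χ q q'' (G.comp F)) :
    sl h' ≫ sl h = sl h'' := by
  refine (Proj.map_comp (slG h) (slG h') (irrelevant_le_slG h) (irrelevant_le_slG h')).symm.trans ?_
  exact map_eq_map _ _ (fun _ => rfl)

theorem sl_eq_id {φ' : A →+* A} {F' : MvPolynomial (Fin (n + 1)) A →+* MvPolynomial (Fin (n + 1)) A}
    (h' : IsSub φ' q q F') (e : F' = RingHom.id _) : sl h' = 𝟙 (Hyp q) := by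
  refine map_eq_id _ _ ?_
  apply DFunLike.ext
  intro x
  obtain ⟨p, rfl⟩ := Ideal.Quotient.mk_surjective x
  rw [slG_mk, e]
  rfl

end Sub

section Constr

variable {n : ℕ} {A B : Type u} [CommRing A] [CommRing B] {d d' : ℕ} (φ : A →+* B)

/-- the substitution `X_i ↦ l_i` over `φ` -/
noncomputable def sub (l : Fin (n + 1) → MvPolynomial (Fin (n + 1)) B) :
    MvPolynomial (Fin (n + 1)) A →+* MvPolynomial (Fin (n + 1)) B :=
  eval₂Hom (C.comp φ) l

@[simp] theorem sub_C (l : Fin (n + 1) → MvPolynomial (Fin (n + 1)) B) (a : A) : sub φ l (C a) = C (φ a) := by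
  simp [sub]

@[simp] theorem sub_X (l : Fin (n + 1) → MvPolynomial (Fin (n + 1)) B) (i : Fin (n + 1)) :
    sub φ l (X i) = l i := by
  simp [sub]

theorem sub_hgr (l : Fin (n + 1) → MvPolynomial (Fin (n + 1)) B) (hl : ∀ i, (l i).IsHomogeneous 1)
    (e : ℕ) (p) (hp : p ∈ CohB1.polyGrading n A e) : sub φ l p ∈ CohB1.polyGrading n B e := by
  have hp' : (MvPolynomial.map φ p).IsHomogeneous e := IsHomogeneous.map hp φ
  have h1 := IsHomogeneous.aeval hp' l (n := 1) hl
  rw [one_mul] at h1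
  change (sub φ l p).IsHomogeneous e
  have h2 : sub φ l p = aeval l (MvPolynomial.map φ p) := by
    have : sub φ l = ((aeval l : MvPolynomial (Fin (n + 1)) B →ₐ[B] _) : _ →+* _).comp (MvPolynomial.map φ) := by
      apply MvPolynomial.ringHom_ext
      · intro a
        simp
      · intro i
        simp
    rw [this]
    rfl
  rwa [h2]

end Constr

/-- `bc` is the substitution `X_i ↦ X_i`. -/
theorem isSub_map {n : ℕ} {A B : Type u} [CommRing A] [CommRing B] {d : ℕ} (φ : A →+* B)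
    (q : ↥(CohB1.polyGrading n A d)) : IsSub φ q (mapForm φ q) (MvPolynomial.map φ) where
  hC _ := map_C _ _
  hgr _ _ hp := IsHomogeneous.map hp φ
  hq := Ideal.mem_span_singleton_self _
  hX j := Ideal.subset_span ⟨j, map_X _ _⟩

theorem bc_eq_sl {n : ℕ} {A B : Type u} [CommRing A] [CommRing B] {d : ℕ} (φ : A →+* B)
    (q : ↥(CohB1.polyGrading n A d)) : bc φ q = sl (isSub_map φ q) :=
  map_eq_map _ _ (fun _ => rfl)

end Groth.Agent.Lefpen.H40.SemiMap
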